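/-
Quadratic offenders in a group with a strongly `p`-embedded subgroup: pairs at different conjugates of that
subgroup, rigidity, and the spread of fixed spaces.
-/
import Cfsg.Agent.SL2Recognition.Offender

set_option autoImplicit false

namespace CfsgLib.FFStronglyP

open Subgroup CfsgLib.SL2Recognition

variable {P : Type*} [Group P] {V : Type*} [AddCommGroup V]

/-- The conjugate `g A g⁻¹`. -/
abbrev cj (g : P) (A : Subgroup P) : Subgroup P := A.map (MulAut.conj g).toMonoidHom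

theorem mem_cj {g x : P} {A : Subgroup P} : x ∈ cj g A ↔ g⁻¹ * x * g ∈ A := by
  rw [cj, mem_map]
  refine ⟨?_, fun h => ⟨_, h, by simp [mul_assoc]⟩⟩
  rintro ⟨a, ha, rfl⟩
  simpa [mul_assoc] using ha

theorem cj_mul (g h : P) (A : Subgroup P) : cj g (cj h A) = cj (g * h) A := by
  ext x; simp only [mem_cj, mul_inv_rev, mul_assoc]

theorem cj_one (A : Subgroup P) : cj 1 A = A := by ext x; simp [mem_cj]

theorem cj_self {g : P} {A : Subgroup P} (hg : g ∈ A) : cj g A = A := by
  ext x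
  rw [mem_cj]
  exact ⟨fun h => by simpa [mul_assoc] using mul_mem (mul_mem hg h) (inv_mem hg),
    fun h => mul_mem (mul_mem (inv_mem hg) h) hg⟩

theorem cj_ne_bot {g : P} {A : Subgroup P} (hA : A ≠ ⊥) : cj g A ≠ ⊥ := fun h =>
  hA ((map_eq_bot_iff_of_injective _ (MulAut.conj g).injective).1 h)

theorem card_cj (g : P) (A : Subgroup P) : Nat.card (cj g A) = Nat.card A :=
  card_map_of_injective (MulAut.conj g).injective

variable (σ : P →* AddMonoid.End V)

theorem fix_sup (A B : Subgroup P) : fix σ (A ⊔ B) = fix σ A ⊓ fix σ B := by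
  refine le_antisymm (le_inf (fix_anti σ le_sup_left) (fix_anti σ le_sup_right)) ?_
  rintro v ⟨hA, hB⟩ x hx
  have hle : A ⊔ B ≤
      { carrier := {g | σ g v = v}
        one_mem' := apply_one σ v
        mul_mem' := fun {g h} hg hh => by
          show σ (g * h) v = v
          rw [apply_mul, hh, hg]
        inv_mem' := fun {g} hg => by
          show σ g⁻¹ v = v
          conv_lhs => rw [← hg]
          rw [apply_inv_apply] } := sup_le hA hB
  exact hle hx

theorem card_fix_cj (g : P) (A : Subgroup P) : Nat.card (fix σ (cj g A)) = Nat.card (fix σ A) :=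
  Nat.card_congr
    { toFun := fun v => ⟨σ g⁻¹ v.1, (mem_fix_conj σ).1 v.2⟩
      invFun := fun v => ⟨σ g v.1, (mem_fix_conj σ).2 (by rw [apply_inv_apply]; exact v.2)⟩
      left_inv := fun v => Subtype.ext (apply_apply_inv σ g v.1)
      right_inv := fun v => Subtype.ext (apply_inv_apply σ g v.1) }

/-- `A` acts quadratically. -/
def Quad (A : Subgroup P) : Prop := ∀ a ∈ A, ∀ b ∈ A, ∀ v, σ a (σ b v - v) = σ b v - v

/-- Quadratic offenders. -/
structure Off (A : Subgroup P) : Prop where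
  ne : A ≠ ⊥
  quad : Quad σ A
  le : Nat.card V ≤ Nat.card A * Nat.card (fix σ A)

theorem Quad.conj {A : Subgroup P} (h : Quad σ A) (g : P) : Quad σ (cj g A) := by
  intro a ha b hb v
  rw [mem_cj] at ha hb
  have e : ∀ x w, σ x w = σ g (σ (g⁻¹ * x * g) (σ g⁻¹ w)) := fun x w => by
    rw [← apply_mul, ← apply_mul]; congr 2; group
  have h1 : σ b v - v = σ g (σ (g⁻¹ * b * g) (σ g⁻¹ v) - σ g⁻¹ v) := by
    rw [map_sub, ← e, apply_apply_inv]
  rw [h1, e a, apply_inv_apply, h _ ha _ hb]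

theorem Off.conj {A : Subgroup P} (h : Off σ A) (g : P) : Off σ (cj g A) :=
  ⟨cj_ne_bot h.ne, h.quad.conj σ g, by rw [card_cj, card_fix_cj]; exact h.le⟩

/-- Two groups fixing a subspace pointwise and acting trivially on the quotient generate a quadratic group. -/
theorem quad_sup {A B : Subgroup P} {W : AddSubgroup V}
    (hA : W ≤ fix σ A) (hB : W ≤ fix σ B) (hA' : ∀ a ∈ A, ∀ v, σ a v - v ∈ W)
    (hB' : ∀ b ∈ B, ∀ v, σ b v - v ∈ W) : Quad σ (A ⊔ B) := by
  have hW : W ≤ fix σ (A ⊔ B) := by rw [fix_sup]; exact le_inf hA hB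
  have hle : A ⊔ B ≤
      { carrier := {g | (∀ w ∈ W, σ g w = w) ∧ ∀ v, σ g v - v ∈ W}
        one_mem' := ⟨fun w _ => apply_one σ w, fun v => by simp [apply_one]⟩
        mul_mem' := fun {g h} hg hh => by
          refine ⟨fun w hw => by rw [apply_mul, hh.1 w hw, hg.1 w hw], fun v => ?_⟩
          have e : σ (g * h) v - v = (σ g (σ h v) - σ h v) + (σ h v - v) := by rw [apply_mul]; abel
          rw [e]; exact W.add_mem (hg.2 _) (hh.2 _)
        inv_mem' := fun {g} hg => by
          refine ⟨fun w hw => ?_, fun v => ?_⟩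
          · conv_lhs => rw [← hg.1 w hw]
            rw [apply_inv_apply]
          · have := W.neg_mem (hg.2 (σ g⁻¹ v))
            rwa [apply_apply_inv, neg_sub] at this } :=
    sup_le (fun a ha => ⟨fun w hw => hA hw a ha, hA' a ha⟩) (fun b hb => ⟨fun w hw => hB hw b hb, hB' b hb⟩)
  exact fun a ha b hb v => hW ((hle hb).2 v) a ha

variable {p : ℕ} (hinj : Function.Injective σ) (hp0 : ∀ v : V, p • v = 0)

include hinj hp0 in
theorem Quad.pow_eq_one {A : Subgroup P} (h : Quad σ A) {a : P} (ha : a ∈ A) : a ^ p = 1 :=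
  hinj (AddMonoidHom.ext fun v => by
    have hk : ∀ k : ℕ, σ (a ^ k) v = v + k • (σ a v - v) := by
      intro k
      induction k with
      | zero => simp [apply_one]
      | succ k ih => rw [pow_succ', apply_mul, ih, map_add, map_nsmul, h a ha a ha, succ_nsmul]; abel
    show σ (a ^ p) v = σ 1 v
    rw [hk, hp0, add_zero, apply_one])

include hinj hp0 in
theorem Quad.isPGroup {A : Subgroup P} (h : Quad σ A) : IsPGroup p A := fun a =>
  ⟨1, Subtype.ext (by rw [pow_one, SubgroupClass.coe_pow, h.pow_eq_one σ hinj hp0 a.2, OneMemClass.coe_one])⟩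

/-- `A` lies in the conjugate `h M h⁻¹`. -/
def At (M : Subgroup P) (h : P) (A : Subgroup P) : Prop := ∀ a ∈ A, h⁻¹ * a * h ∈ M

/-- No conjugate of `M` contains both. -/
def Far (M : Subgroup P) (A B : Subgroup P) : Prop := ∀ h, At M h A → ¬ At M h B

theorem at_cj_iff {M A : Subgroup P} {g h : P} : At M h (cj g A) ↔ At M (g⁻¹ * h) A := by
  refine ⟨fun hh a ha => ?_, fun hh a ha => ?_⟩
  · have := hh (g * a * g⁻¹) (by rw [mem_cj]; simpa [mul_assoc] using ha)
    simpa [mul_assoc] using this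
  · rw [mem_cj] at ha
    have := hh _ ha
    simpa [mul_assoc] using this

theorem Far.symm {M A B : Subgroup P} (h : Far M A B) : Far M B A := fun k hB hA => h k hA hB

theorem Far.conj {M A B : Subgroup P} (h : Far M A B) (g : P) : Far M (cj g A) (cj g B) := fun _ hA hB =>
  h _ (at_cj_iff.1 hA) (at_cj_iff.1 hB)

section Setting

variable (M : Subgroup P)
  (hM : ∀ z g : P, z ∈ M → z ≠ 1 → IsPGroup p (zpowers z) → g * z * g⁻¹ ∈ M → g ∈ M)
  (hMtop : M ≠ ⊤) (hMP : ∀ R : Subgroup P, IsPGroup p R → ∃ h, At M h R)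

include hM in
/-- A nontrivial `p`-element lies in only one conjugate of `M`. -/
theorem at_unique {R : Subgroup P} (hR : IsPGroup p R) {z h k : P} (hz : z ∈ R) (hz1 : z ≠ 1)
    (h1 : h⁻¹ * z * h ∈ M) (h2 : k⁻¹ * z * k ∈ M) : k⁻¹ * h ∈ M := by
  refine hM _ _ h1 (fun e => hz1 ?_) ?_ ?_
  · calc z = h * (h⁻¹ * z * h) * h⁻¹ := by group
      _ = 1 := by rw [e]; group
  · obtain ⟨n, hn⟩ := hR ⟨z, hz⟩
    have hn' : z ^ p ^ n = 1 := congrArg Subtype.val hn
    have he : (h⁻¹ * z * h) ^ p ^ n = 1 := by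
      rw [show h⁻¹ * z * h = h⁻¹ * z * h⁻¹⁻¹ by rw [inv_inv], conj_pow, hn']; group
    rintro ⟨w, hw⟩
    obtain ⟨i, rfl⟩ := mem_zpowers_iff.1 hw
    refine ⟨n, Subtype.ext ?_⟩
    show ((h⁻¹ * z * h) ^ i) ^ p ^ n = 1
    rw [← zpow_natCast, zpow_comm, zpow_natCast, he, one_zpow]
  · simpa [mul_assoc] using h2

theorem At.move {R : Subgroup P} {h k : P} (hk : At M k R) (he : k⁻¹ * h ∈ M) : At M h R := fun r hr => by
  have := M.mul_mem (M.mul_mem (M.inv_mem he) (hk r hr)) he
  simpa [mul_assoc] using this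

include hM hMP in
/-- A `p`-group lies in every conjugate of `M` containing one of its nontrivial elements. -/
theorem at_of_group {R : Subgroup P} (hR : IsPGroup p R) {z h : P} (hz : z ∈ R) (hz1 : z ≠ 1)
    (h1 : h⁻¹ * z * h ∈ M) : At M h R := by
  obtain ⟨k, hk⟩ := hMP R hR
  exact hk.move M (at_unique M hM hR hz hz1 h1 (hk z hz))

/-- A pair of offenders of one order in different conjugates of `M`. -/
structure Opp (A B : Subgroup P) : Prop where
  offA : Off σ A
  offB : Off σ B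
  card_eq : Nat.card A = Nat.card B
  fix_eq : Nat.card (fix σ A) = Nat.card (fix σ B)
  far : Far M A B

theorem Opp.symm {A B : Subgroup P} (h : Opp σ M A B) : Opp σ M B A :=
  ⟨h.offB, h.offA, h.card_eq.symm, h.fix_eq.symm, h.far.symm⟩

theorem Opp.conj {A B : Subgroup P} (h : Opp σ M A B) (g : P) : Opp σ M (cj g A) (cj g B) :=
  ⟨h.offA.conj σ g, h.offB.conj σ g, by rw [card_cj, card_cj, h.card_eq],
    by rw [card_fix_cj, card_fix_cj, h.fix_eq], h.far.conj g⟩

variable [Finite P] [Finite V]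
include hinj hp0 hM hMtop hMP

theorem Opp.step {A B : Subgroup P} (h : Opp σ M A B) {a : P} (ha : a ∈ A) (ha1 : a ≠ 1) :
    Opp σ M B (cj a B) := by
  refine ⟨h.offB, h.offB.conj σ a, (card_cj a B).symm, (card_fix_cj σ a B).symm, fun k hk hk' => ?_⟩
  obtain ⟨b, hb, hb1⟩ := (ne_bot_iff_exists_ne_one.1 h.offB.ne |> fun ⟨x, hx⟩ =>
    (⟨x.1, x.2, fun e => hx (Subtype.ext e)⟩ : ∃ b, b ∈ B ∧ b ≠ 1))
  have hBp := h.offB.quad.isPGroup σ hinj hp0
  have e := at_unique M hM hBp hb hb1 (hk b hb) (at_cj_iff.1 hk' b hb)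
  have hka : k⁻¹ * a * k ∈ M := by simpa [mul_assoc] using e
  exact h.far k (at_of_group M hM hMP (h.offA.quad.isPGroup σ hinj hp0) ha ha1 hka) hk

/-- What an opposite pair gives: the module is spanned by the two fixed spaces, the bound is attained, and a
nontrivial element moves the other fixed space off itself modulo the common part. -/
theorem Opp.basic {A B : Subgroup P} (h : Opp σ M A B) :
    fix σ A ⊔ fix σ B = ⊤ ∧ Nat.card A * Nat.card (fix σ A) = Nat.card V ∧
      Nat.card A * Nat.card ↥(fix σ A ⊓ fix σ B) = Nat.card (fix σ A) ∧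
      ∀ c ∈ A, c ≠ 1 → fix σ B ⊓ fix σ (cj c B) ≤ fix σ A := by
  induction hn : Nat.card ↥(A ⊔ B) using Nat.strong_induction_on generalizing A B with
  | _ n ih =>
  subst hn
  set X := fix σ A with hX
  set Y := fix σ B with hY
  set C0 := X ⊓ Y with hC0
  have hXY : Nat.card X = Nat.card Y := h.fix_eq
  have hsup := card_sup_mul_inf X Y
  have hcard_le : Nat.card ↥(X ⊔ Y) ≤ Nat.card V :=
    Nat.card_le_card_of_injective _ Subtype.val_injective
  have hC0pos : 0 < Nat.card C0 := Nat.card_pos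
  have hcut : ∀ c ∈ A, c ≠ 1 → Y ⊓ fix σ (cj c B) ≤ X := by
    intro c hc hc1
    set Y' := fix σ (cj c B) with hY'
    have hle : B ⊔ cj c B ≤ A ⊔ B := sup_le le_sup_right fun x hx => by
      rw [mem_cj] at hx
      have := (A ⊔ B).mul_mem ((A ⊔ B).mul_mem (mem_sup_left hc) (mem_sup_right (S := A) hx))
        ((A ⊔ B).inv_mem (mem_sup_left hc))
      simpa [mul_assoc] using this
    rcases hle.eq_or_lt with heq | hlt
    · have : Y ⊓ Y' = fix σ (A ⊔ B) := by rw [← heq, fix_sup]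
      rw [this]; exact fix_anti σ le_sup_left
    · obtain ⟨htop, -, -, -⟩ := ih _ (by
        refine lt_of_le_of_ne (card_le_of_le hle) fun e => hlt.ne (eq_of_le_of_card_ge hle e.ge))
        (h.step σ hinj hp0 M hM hMtop hMP hc hc1) rfl
      have h1 := card_sup_mul_inf Y Y'
      rw [htop, AddSubgroup.card_top, card_fix_cj] at h1
      have hC0Y' : C0 ≤ Y ⊓ Y' := fun v hv => ⟨hv.2, (mem_fix_conj σ).2 (by
        rw [show σ c⁻¹ v = v from hv.1 _ (inv_mem hc)]; exact hv.2)⟩
      have h2 : Nat.card V * Nat.card ↥(Y ⊓ Y') ≤ Nat.card V * Nat.card C0 := by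
        rw [h1, ← hY]
        calc Nat.card Y * Nat.card Y = Nat.card X * Nat.card Y := by rw [hXY]
          _ = _ := hsup.symm
          _ ≤ _ := Nat.mul_le_mul_right _ hcard_le
      have h3 := AddSubgroup.eq_of_le_of_card_ge hC0Y' (Nat.le_of_mul_le_mul_left h2 Nat.card_pos)
      rw [← h3]; exact inf_le_left
  obtain ⟨y0, hy0, hy0n⟩ : ∃ y, y ∈ Y ∧ y ∉ X := by
    by_contra hcon
    push Not at hcon
    have heq : Y = X := AddSubgroup.eq_of_le_of_card_ge hcon hXY.le
    have hq : Quad σ (A ⊔ B) := quad_sup σ (W := X) le_rfl heq.ge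
      (fun a ha v => fun a' ha' => h.offA.quad a' ha' a ha v)
      (fun b hb v => by rw [← heq]; exact fun b' hb' => h.offB.quad b' hb' b hb v)
    obtain ⟨k, hk⟩ := hMP _ (hq.isPGroup σ hinj hp0)
    exact h.far k (fun a ha => hk a (mem_sup_left ha)) (fun b hb => hk b (mem_sup_right hb))
  have hev : Nat.card A * Nat.card C0 ≤ Nat.card X := by
    have hmem : ∀ a : A, σ (a : P) y0 - y0 ∈ X := fun a a' ha' => h.offA.quad a' ha' a a.2 y0
    let f : A → X ⧸ C0.addSubgroupOf X := fun a => QuotientAddGroup.mk ⟨σ (a : P) y0 - y0, hmem a⟩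
    have hf : Function.Injective f := by
      intro a b e
      rw [QuotientAddGroup.eq, AddSubgroup.mem_addSubgroupOf] at e
      have h' : σ (b : P) y0 - σ (a : P) y0 ∈ C0 := by
        have e' : -(σ (a : P) y0 - y0) + (σ (b : P) y0 - y0) = σ (b : P) y0 - σ (a : P) y0 := by abel
        rw [← e']; exact e
      by_contra hne
      set c := (a : P)⁻¹ * b with hc
      have hcA : c ∈ A := mul_mem (inv_mem a.2) b.2
      have hc1 : c⁻¹ ≠ 1 := fun e1 => hne (Subtype.ext (inv_mul_eq_one.1 (inv_eq_one.1 e1)))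
      have e2 : σ c y0 - y0 = σ (b : P) y0 - σ (a : P) y0 := by
        have : σ c y0 - y0 = σ (a : P)⁻¹ (σ (b : P) y0 - σ (a : P) y0) := by
          rw [map_sub, apply_inv_apply, hc, apply_mul]
        rw [this]; exact h'.1 _ (inv_mem a.2)
      have h3 : σ c y0 ∈ Y := by
        have := Y.add_mem (show σ c y0 - y0 ∈ Y by rw [e2]; exact h'.2) hy0
        simpa using this
      exact hy0n (hcut _ (inv_mem hcA) hc1 ⟨hy0, (mem_fix_conj σ).2 (by rw [inv_inv]; exact h3)⟩)
    have := Nat.mul_le_mul_right (Nat.card C0) (Nat.card_le_card_of_injective f hf)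
    refine this.trans (le_of_eq ?_)
    rw [AddSubgroup.card_eq_card_quotient_mul_card_addSubgroup (C0.addSubgroupOf X),
      Nat.card_congr (AddSubgroup.addSubgroupOfEquivOfLe (inf_le_left : C0 ≤ X)).toEquiv]
  have hVle := h.offA.le
  rw [← hXY] at hsup
  rw [← hC0, ← hX] at *
  have h1 : Nat.card V * Nat.card C0 ≤ Nat.card X * Nat.card X :=
    calc Nat.card V * Nat.card C0 ≤ Nat.card A * Nat.card X * Nat.card C0 := Nat.mul_le_mul_right _ hVle
      _ = Nat.card A * Nat.card C0 * Nat.card X := by ring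
      _ ≤ _ := Nat.mul_le_mul_right _ hev
  have h2 : Nat.card ↥(X ⊔ Y) = Nat.card V := le_antisymm hcard_le
    (Nat.le_of_mul_le_mul_right (h1.trans hsup.ge) hC0pos)
  rw [h2] at hsup
  have h3 : Nat.card A * Nat.card X = Nat.card V := le_antisymm
    (Nat.le_of_mul_le_mul_right (by
      calc Nat.card A * Nat.card X * Nat.card C0 = Nat.card A * Nat.card C0 * Nat.card X := by ring
        _ ≤ Nat.card X * Nat.card X := Nat.mul_le_mul_right _ hev
        _ = _ := hsup.symm) hC0pos) hVle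
  refine ⟨AddSubgroup.eq_top_of_card_eq _ h2, h3,
    Nat.eq_of_mul_eq_mul_right (Nat.card_pos (α := X)) ?_, hcut⟩
  rw [← hsup, ← h3]; ring

omit [Finite V] in
theorem exists_opp {A : Subgroup P} (hA : Off σ A) : ∃ B, Opp σ M A B := by
  obtain ⟨h, hh⟩ := hMP A (hA.quad.isPGroup σ hinj hp0)
  obtain ⟨y, hy⟩ : ∃ y, y ∉ M := by
    by_contra hc
    push Not at hc
    exact hMtop (eq_top_iff.2 fun x _ => hc x)
  refine ⟨cj (h * y * h⁻¹) A, hA, hA.conj σ _, (card_cj _ A).symm, (card_fix_cj σ _ A).symm, fun k hk hk' => ?_⟩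
  obtain ⟨a, ha, ha1⟩ := (ne_bot_iff_exists_ne_one.1 hA.ne |> fun ⟨x, hx⟩ =>
    (⟨x.1, x.2, fun e => hx (Subtype.ext e)⟩ : ∃ b, b ∈ A ∧ b ≠ 1))
  have hp := hA.quad.isPGroup σ hinj hp0
  have e1 := at_unique M hM hp ha ha1 (hk a ha) (hh a ha)
  have e2 := at_unique M hM hp ha ha1 (at_cj_iff.1 hk' a ha) (hh a ha)
  apply hy
  have e3 := M.mul_mem e1 (M.inv_mem e2)
  simpa [mul_assoc] using e3

/-- Quadratic offenders attain the bound exactly. -/
theorem Off.card_mul {A : Subgroup P} (hA : Off σ A) : Nat.card A * Nat.card (fix σ A) = Nat.card V := by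
  obtain ⟨B, hB⟩ := exists_opp σ hinj hp0 M hM hMtop hMP hA
  exact (hB.basic σ hinj hp0 M hM hMtop hMP).2.1

/-- Nontrivial elements of a quadratic offender have its fixed space. -/
theorem Off.mem_fix {A : Subgroup P} (hA : Off σ A) {a : P} (ha : a ∈ A) (ha1 : a ≠ 1) {v : V}
    (hv : σ a v = v) : v ∈ fix σ A := by
  obtain ⟨B, hB⟩ := exists_opp σ hinj hp0 M hM hMtop hMP hA
  obtain ⟨htop, -, -, hcut⟩ := hB.basic σ hinj hp0 M hM hMtop hMP
  obtain ⟨x, hx, y, hy, rfl⟩ := AddSubgroup.mem_sup.1 (htop ▸ AddSubgroup.mem_top v)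
  rw [map_add, hx a ha] at hv
  have hy' : σ a y = y := add_left_cancel hv
  refine (fix σ A).add_mem hx (hcut a ha ha1 ⟨hy, (mem_fix_conj σ).2 ?_⟩)
  conv => arg 2; rw [← hy']
  rw [apply_inv_apply]; exact hy

theorem fix_card_eq {A B : Subgroup P} (hA : Off σ A) (hB : Off σ B) (hc : Nat.card A = Nat.card B) :
    Nat.card (fix σ A) = Nat.card (fix σ B) :=
  Nat.eq_of_mul_eq_mul_left (Nat.card_pos (α := A))
    ((hA.card_mul σ hinj hp0 M hM hMtop hMP).trans (by rw [hc]; exact (hB.card_mul σ hinj hp0 M hM hMtop hMP).symm))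

theorem Opp.mk' {A B : Subgroup P} (hA : Off σ A) (hB : Off σ B) (hc : Nat.card A = Nat.card B)
    (hf : Far M A B) : Opp σ M A B :=
  ⟨hA, hB, hc, fix_card_eq σ hinj hp0 M hM hMtop hMP hA hB hc, hf⟩

theorem eq_of_fix_eq {A B : Subgroup P} (hA : Off σ A) (hB : Off σ B) (he : fix σ A = fix σ B) : A = B := by
  have hq : Quad σ (A ⊔ B) := quad_sup σ (W := fix σ A) le_rfl he.le
    (fun a ha v => fun a' ha' => hA.quad a' ha' a ha v)
    (fun b hb v => by rw [he]; exact fun b' hb' => hB.quad b' hb' b hb v)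
  have hfix : fix σ (A ⊔ B) = fix σ A := by rw [fix_sup, he, inf_idem]
  have hE : Off σ (A ⊔ B) := ⟨fun e => hA.ne (le_bot_iff.1 (e ▸ le_sup_left)), hq, by
    rw [hfix]; exact hA.le.trans (Nat.mul_le_mul_right _ (card_le_of_le le_sup_left))⟩
  have hm := hE.card_mul σ hinj hp0 M hM hMtop hMP
  rw [hfix] at hm
  have h1 := Nat.eq_of_mul_eq_mul_right Nat.card_pos (hm.trans (hA.card_mul σ hinj hp0 M hM hMtop hMP).symm)
  rw [he] at hm
  have h2 := Nat.eq_of_mul_eq_mul_right Nat.card_pos (hm.trans (hB.card_mul σ hinj hp0 M hM hMtop hMP).symm)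
  exact (eq_of_le_of_card_ge (le_sup_left : A ≤ A ⊔ B) h1.le).trans
    (eq_of_le_of_card_ge (le_sup_right : B ≤ A ⊔ B) h2.le).symm

end Setting

end CfsgLib.FFStronglyP
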