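/-
The offenders of an opposite pair form a spread of fixed spaces, and every offender of that order belongs to it.
-/
import Cfsg.Agent.FFStronglyP.Basic

set_option autoImplicit false

namespace CfsgLib.FFStronglyP

open Subgroup CfsgLib.SL2Recognition

variable {P : Type*} [Group P] {V : Type*} [AddCommGroup V] (σ : P →* AddMonoid.End V)
  {p : ℕ} (hinj : Function.Injective σ) (hp0 : ∀ v : V, p • v = 0) (M : Subgroup P)
  (hM : ∀ z g : P, z ∈ M → z ≠ 1 → IsPGroup p (zpowers z) → g * z * g⁻¹ ∈ M → g ∈ M)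
  (hMtop : M ≠ ⊤) (hMP : ∀ R : Subgroup P, IsPGroup p R → ∃ h, At M h R)

/-- The members of the spread of the pair `A`, `C`. -/
def Root (A C G : Subgroup P) : Prop := G = A ∨ ∃ a ∈ A, G = cj a C

theorem root_left (A C : Subgroup P) : Root A C A := Or.inl rfl

theorem root_right (A C : Subgroup P) : Root A C C := Or.inr ⟨1, one_mem _, (cj_one C).symm⟩

theorem root_le {A C G : Subgroup P} (h : Root A C G) : G ≤ A ⊔ C := by
  rcases h with rfl | ⟨a, ha, rfl⟩
  · exact le_sup_left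
  · intro x hx
    rw [mem_cj] at hx
    have := (A ⊔ C).mul_mem ((A ⊔ C).mul_mem (mem_sup_left ha) (mem_sup_right (S := A) hx))
      ((A ⊔ C).inv_mem (mem_sup_left ha))
    simpa [mul_assoc] using this

theorem inf_le_fix_root {A C G : Subgroup P} (h : Root A C G) : fix σ A ⊓ fix σ C ≤ fix σ G := by
  rw [← fix_sup]; exact fix_anti σ (root_le h)

theorem cj_mem_self {M : Subgroup P} {A : Subgroup P} {a h : P} (ha : a ∈ A) (hh : At M h A) : h⁻¹ * a * h ∈ M :=
  hh a ha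

include hinj hp0 hM hMtop hMP
variable [Finite P] [Finite V]

theorem root_off {A C G : Subgroup P} (h : Opp σ M A C) (hG : Root A C G) :
    Off σ G ∧ Nat.card G = Nat.card A := by
  rcases hG with rfl | ⟨a, -, rfl⟩
  · exact ⟨h.offA, rfl⟩
  · exact ⟨h.offB.conj σ a, by rw [card_cj, h.card_eq]⟩

theorem root_opp {A C G G' : Subgroup P} (h : Opp σ M A C) (hG : Root A C G) (hG' : Root A C G')
    (hne : G ≠ G') : Opp σ M G G' := by
  have aux : ∀ a ∈ A, Opp σ M A (cj a C) := fun a ha => by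
    have := h.conj σ M a
    rwa [cj_self ha] at this
  rcases hG with rfl | ⟨a, ha, rfl⟩
  · rcases hG' with rfl | ⟨a', ha', rfl⟩
    · exact absurd rfl hne
    · exact aux a' ha'
  · rcases hG' with rfl | ⟨a', ha', rfl⟩
    · exact (aux a ha).symm
    · have hc : a⁻¹ * a' ≠ 1 := fun e => hne (by rw [inv_mul_eq_one.1 e])
      have := (h.step σ hinj hp0 M hM hMtop hMP (mul_mem (inv_mem ha) ha') hc).conj σ M a
      rwa [cj_mul, ← mul_assoc, mul_inv_cancel, one_mul] at this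

/-- Two members meet in the common fixed space of the pair. -/
theorem root_inf {A C G G' : Subgroup P} (h : Opp σ M A C) (hG : Root A C G) (hG' : Root A C G')
    (hne : G ≠ G') : fix σ G ⊓ fix σ G' = fix σ A ⊓ fix σ C := by
  have hO := root_opp σ hinj hp0 M hM hMtop hMP h hG hG' hne
  have hc : Nat.card G = Nat.card A := (root_off σ hinj hp0 M hM hMtop hMP h hG).2
  have h1 := (hO.basic σ hinj hp0 M hM hMtop hMP).2.2.1
  have h2 := (h.basic σ hinj hp0 M hM hMtop hMP).2.2.1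
  have h3 := fix_card_eq σ hinj hp0 M hM hMtop hMP hO.offA h.offA hc
  refine (AddSubgroup.eq_of_le_of_card_ge
    (le_inf (inf_le_fix_root σ hG) (inf_le_fix_root σ hG')) ?_).symm
  refine Nat.le_of_mul_le_mul_left ?_ (Nat.card_pos (α := A))
  rw [h2, ← h3, ← h1, hc]

/-- The members' fixed spaces cover the module. -/
theorem exists_root_mem {A C : Subgroup P} (h : Opp σ M A C) (v : V) :
    ∃ G, Root A C G ∧ v ∈ fix σ G := by
  classical
  obtain ⟨htop, -, hAC, hcut⟩ := h.basic σ hinj hp0 M hM hMtop hMP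
  set X := fix σ A
  set Y := fix σ C
  set C0 := X ⊓ Y
  obtain ⟨x, hx, y, hy, rfl⟩ := AddSubgroup.mem_sup.1 (htop ▸ AddSubgroup.mem_top v)
  by_cases hy0 : y ∈ X
  · exact ⟨A, root_left A C, X.add_mem hx hy0⟩
  have hC0A : ∀ a ∈ A, ∀ w ∈ C0, σ a w = w := fun a ha w hw => hw.1 a ha
  let f : A → X ⧸ C0.addSubgroupOf X := fun a =>
    QuotientAddGroup.mk ⟨σ (a : P) y - y, fun a' ha' => h.offA.quad a' ha' a a.2 y⟩
  have hf : Function.Injective f := by
    intro a b e
    rw [QuotientAddGroup.eq, AddSubgroup.mem_addSubgroupOf] at e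
    have h' : σ (b : P) y - σ (a : P) y ∈ C0 := by
      have e' : -(σ (a : P) y - y) + (σ (b : P) y - y) = σ (b : P) y - σ (a : P) y := by abel
      rw [← e']; exact e
    by_contra hne
    set c := (a : P)⁻¹ * b with hc
    have hc1 : c⁻¹ ≠ 1 := fun e1 => hne (Subtype.ext (inv_mul_eq_one.1 (inv_eq_one.1 e1)))
    have e2 : σ c y - y = σ (b : P) y - σ (a : P) y := by
      have : σ c y - y = σ (a : P)⁻¹ (σ (b : P) y - σ (a : P) y) := by
        rw [map_sub, apply_inv_apply, hc, apply_mul]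
      rw [this]; exact hC0A _ (inv_mem a.2) _ h'
    have h3 : σ c y ∈ Y := by
      have := Y.add_mem (show σ c y - y ∈ Y by rw [e2]; exact h'.2) hy
      simpa using this
    exact hy0 (hcut _ (inv_mem (mul_mem (inv_mem a.2) b.2)) hc1
      ⟨hy, (mem_fix_conj σ).2 (by rw [inv_inv]; exact h3)⟩)
  have hcard : Nat.card A = Nat.card (X ⧸ C0.addSubgroupOf X) := by
    refine Nat.eq_of_mul_eq_mul_right (Nat.card_pos (α := C0)) ?_
    rw [hAC, AddSubgroup.card_eq_card_quotient_mul_card_addSubgroup (C0.addSubgroupOf X),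
      Nat.card_congr (AddSubgroup.addSubgroupOfEquivOfLe (inf_le_left : C0 ≤ X)).toEquiv]
  obtain ⟨a, ha⟩ := ((Nat.bijective_iff_injective_and_card f).2 ⟨hf, hcard⟩).2 (QuotientAddGroup.mk ⟨x, hx⟩)
  rw [QuotientAddGroup.eq, AddSubgroup.mem_addSubgroupOf] at ha
  have ha' : -(σ (a : P) y - y) + x ∈ C0 := ha
  refine ⟨cj (a : P) C, Or.inr ⟨a, a.2, rfl⟩, (mem_fix_conj σ).2 ?_⟩
  have e : σ (a : P)⁻¹ (x + y) = y + (-(σ (a : P) y - y) + x) := by
    apply apply_injective σ (a : P)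
    rw [apply_apply_inv, map_add, hC0A _ a.2 _ ha']
    abel
  rw [e]
  exact Y.add_mem hy ha'.2

/-- An offender of that order fixing the common fixed space is a member. -/
theorem mem_roots {A C E : Subgroup P} (h : Opp σ M A C) (hE : Off σ E) (hc : Nat.card E = Nat.card A)
    (hle : fix σ A ⊓ fix σ C ≤ fix σ E) : Root A C E := by
  obtain ⟨-, -, hAC, -⟩ := h.basic σ hinj hp0 M hM hMtop hMP
  have hfar : ∀ G, Root A C G → Far M E G → fix σ E ⊓ fix σ G = fix σ A ⊓ fix σ C := by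
    intro G hG hF
    obtain ⟨hGo, hGc⟩ := root_off σ hinj hp0 M hM hMtop hMP h hG
    have hO := Opp.mk' σ hinj hp0 M hM hMtop hMP hE hGo (hc.trans hGc.symm) hF
    have h1 := (hO.basic σ hinj hp0 M hM hMtop hMP).2.2.1
    have h3 := fix_card_eq σ hinj hp0 M hM hMtop hMP hE h.offA hc
    refine (AddSubgroup.eq_of_le_of_card_ge (le_inf hle (inf_le_fix_root σ hG)) ?_).symm
    refine Nat.le_of_mul_le_mul_left ?_ (Nat.card_pos (α := A))
    rw [hAC, ← h3, ← h1, hc]
  by_cases hall : ∀ G, Root A C G → Far M E G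
  · exfalso
    have hsub : fix σ E ≤ fix σ A ⊓ fix σ C := fun v hv => by
      obtain ⟨G, hG, hvG⟩ := exists_root_mem σ hinj hp0 M hM hMtop hMP h v
      exact (hfar G hG (hall G hG)).le ⟨hv, hvG⟩
    have h1 : Nat.card (fix σ E) ≤ Nat.card ↥(fix σ A ⊓ fix σ C) :=
      Nat.card_le_card_of_injective _ (Set.inclusion_injective hsub)
    rw [fix_card_eq σ hinj hp0 M hM hMtop hMP hE h.offA hc, ← hAC] at h1
    have h2 : Nat.card A ≤ 1 := Nat.le_of_mul_le_mul_right (by rw [one_mul]; exact h1) Nat.card_pos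
    exact h.offA.ne (eq_bot_of_card_le _ h2)
  push Not at hall
  obtain ⟨G, hG, hGE⟩ := hall
  obtain ⟨k, hkE, hkG⟩ : ∃ k, At M k E ∧ At M k G := by
    unfold Far at hGE; push Not at hGE; exact hGE
  obtain ⟨hGo, hGc⟩ := root_off σ hinj hp0 M hM hMtop hMP h hG
  obtain ⟨e, he, he1⟩ := (ne_bot_iff_exists_ne_one.1 hE.ne |> fun ⟨x, hx⟩ =>
    (⟨x.1, x.2, fun e => hx (Subtype.ext e)⟩ : ∃ b, b ∈ E ∧ b ≠ 1))
  have hsub : fix σ E ≤ fix σ G := fun v hv => by
    obtain ⟨G', hG', hvG'⟩ := exists_root_mem σ hinj hp0 M hM hMtop hMP h v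
    by_cases he' : G' = G
    · exact he' ▸ hvG'
    refine inf_le_fix_root σ hG ((hfar G' hG' fun l hlE hlG' => ?_).le ⟨hv, hvG'⟩)
    have hl := at_unique M hM (hE.quad.isPGroup σ hinj hp0) he he1 (hlE e he) (hkE e he)
    exact (root_opp σ hinj hp0 M hM hMtop hMP h hG hG' (Ne.symm he')).far l (hkG.move M hl) hlG'
  have heq := AddSubgroup.eq_of_le_of_card_ge hsub
    (fix_card_eq σ hinj hp0 M hM hMtop hMP hGo hE (hGc.trans hc.symm)).le
  rw [eq_of_fix_eq σ hinj hp0 M hM hMtop hMP hE hGo heq]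
  exact hG

/-- Every offender of that order fixes the common fixed space of an opposite pair. -/
theorem inf_le_fix {A C D : Subgroup P} (h : Opp σ M A C) (hD : Off σ D) (hc : Nat.card D = Nat.card A) :
    fix σ A ⊓ fix σ C ≤ fix σ D := by
  induction hn : Nat.card ↥(A ⊔ C ⊔ D) using Nat.strong_induction_on generalizing A C D with
  | _ n ih =>
  subst hn
  by_contra hnle
  obtain ⟨d, hd, hd1⟩ := (ne_bot_iff_exists_ne_one.1 hD.ne |> fun ⟨x, hx⟩ =>
    (⟨x.1, x.2, fun e => hx (Subtype.ext e)⟩ : ∃ b, b ∈ D ∧ b ≠ 1))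
  -- arrange that `C` and `D` are opposite
  wlog hCD : Far M C D generalizing A C with H
  · unfold Far at hCD
    push Not at hCD
    obtain ⟨k, hkC, hkD⟩ := hCD
    have hsw : C ⊔ A ⊔ D = A ⊔ C ⊔ D := by rw [sup_comm C A]
    refine H h.symm (hc.trans h.card_eq) (by rw [hsw]; exact ih) (by rw [inf_comm]; exact hnle)
      fun l hlA hlD => h.far k ?_ hkC
    exact hlA.move M (at_unique M hM (hD.quad.isPGroup σ hinj hp0) hd hd1 (hkD d hd) (hlD d hd))
  have hOD : Opp σ M C D :=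
    Opp.mk' σ hinj hp0 M hM hMtop hMP h.offB hD (h.card_eq.symm.trans hc.symm) hCD
  set C0 := fix σ A ⊓ fix σ C with hC0
  set J := fix σ C ⊓ fix σ D with hJ
  have hJcard : Nat.card J = Nat.card C0 := by
    have h1 := (hOD.basic σ hinj hp0 M hM hMtop hMP).2.2.1
    have h2 := (h.basic σ hinj hp0 M hM hMtop hMP).2.2.1
    refine Nat.eq_of_mul_eq_mul_left (Nat.card_pos (α := A)) ?_
    rw [h2, h.fix_eq, ← h1, h.card_eq]
  obtain ⟨G, hG, hGC, hGcase⟩ : ∃ G, Root A C G ∧ G ≠ C ∧ ((∀ H, Root C D H → Far M G H) ∨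
      ∀ G', Root A C G' → G' ≠ C → ∃ H, Root C D H ∧ ¬ Far M G' H) := by
    by_cases hex : ∃ G, Root A C G ∧ G ≠ C ∧ ∀ H, Root C D H → Far M G H
    · obtain ⟨G, h1, h2, h3⟩ := hex
      exact ⟨G, h1, h2, Or.inl h3⟩
    · push Not at hex
      refine ⟨A, root_left A C, fun e => ?_, Or.inr hex⟩
      subst e
      obtain ⟨k, hk⟩ := hMP _ (h.offA.quad.isPGroup σ hinj hp0)
      exact h.far k hk hk
  obtain ⟨hGo, hGc⟩ := root_off σ hinj hp0 M hM hMtop hMP h hG
  have hGC0 : fix σ G ⊓ fix σ C = C0 := root_inf σ hinj hp0 M hM hMtop hMP h hG (root_right A C) hGC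
  have hJG : ¬ J ≤ fix σ G := by
    intro hle
    have h1 : J ≤ C0 := (le_inf hle inf_le_left).trans hGC0.le
    exact hnle ((AddSubgroup.eq_of_le_of_card_ge h1 hJcard.ge).ge.trans inf_le_right)
  obtain ⟨a, ha, ha1⟩ := (ne_bot_iff_exists_ne_one.1 hGo.ne |> fun ⟨x, hx⟩ =>
    (⟨x.1, x.2, fun e => hx (Subtype.ext e)⟩ : ∃ b, b ∈ G ∧ b ≠ 1))
  obtain ⟨w, hwJ, hwG⟩ : ∃ w, w ∈ J ∧ w ∉ fix σ G := by
    by_contra hcon
    push Not at hcon
    exact hJG hcon
  obtain ⟨F, hF, hvF⟩ := exists_root_mem σ hinj hp0 M hM hMtop hMP hOD (σ a w)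
  obtain ⟨hFo, hFc⟩ := root_off σ hinj hp0 M hM hMtop hMP hOD hF
  set L := A ⊔ C ⊔ D with hL
  have hGL : G ≤ L := (root_le hG).trans le_sup_left
  have hFL : F ≤ L := (root_le hF).trans (sup_le (le_sup_right.trans le_sup_left) le_sup_right)
  -- the conjugate pair lies in the stabiliser of `σ a w`
  have hJF : ∀ u ∈ J, σ a u ∈ fix σ F := by
    set L' := cj a C ⊔ cj a D ⊔ F with hL'
    have hcjL : ∀ B ≤ L, cj a B ≤ L := fun B hB x hx => by
      rw [mem_cj] at hx
      have := L.mul_mem (L.mul_mem (hGL ha) (hB hx)) (L.inv_mem (hGL ha))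
      simpa [mul_assoc] using this
    have hlt : L' < L := by
      refine lt_of_le_of_ne (sup_le (sup_le (hcjL C (le_sup_right.trans le_sup_left))
        (hcjL D le_sup_right)) hFL) fun e => ?_
      have hfix : σ a w ∈ fix σ L' := by
        rw [hL', fix_sup, fix_sup]
        exact ⟨⟨(mem_fix_conj σ).2 (by rw [apply_inv_apply]; exact hwJ.1),
          (mem_fix_conj σ).2 (by rw [apply_inv_apply]; exact hwJ.2)⟩, hvF⟩
      rw [e] at hfix
      have h1 : σ a w = w := apply_injective σ a (hfix a (hGL ha))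
      exact hwG (h1 ▸ fix_anti σ hGL hfix)
    have := ih _ (lt_of_le_of_ne (card_le_of_le hlt.le) fun e => hlt.ne (eq_of_le_of_card_ge hlt.le e.ge))
      (hOD.conj σ M a) hFo (hFc.trans (card_cj a C).symm) rfl
    intro u hu
    exact this ⟨(mem_fix_conj σ).2 (by rw [apply_inv_apply]; exact hu.1),
      (mem_fix_conj σ).2 (by rw [apply_inv_apply]; exact hu.2)⟩
  set E := cj a⁻¹ F with hE
  have hJE : J ≤ fix σ E := fun u hu => (mem_fix_conj σ).2 (by rw [inv_inv]; exact hJF u hu)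
  have hEr : Root C D E := mem_roots σ hinj hp0 M hM hMtop hMP hOD (hFo.conj σ _)
    ((card_cj _ F).trans hFc) hJE
  by_cases hEF : E = F
  swap
  · -- the fixed spaces of `G` and `F` meet only inside `C0 ⊓ fix D`
    have hEFJ := root_inf σ hinj hp0 M hM hMtop hMP hOD hEr hF hEF
    have hsub : fix σ G ⊓ fix σ F ≤ C0 ⊓ fix σ D := fun v hv => by
      have hvE : v ∈ fix σ E := (mem_fix_conj σ).2 (by rw [inv_inv, hv.1 a ha]; exact hv.2)
      have hvJ : v ∈ J := hEFJ.le ⟨hvE, hv.2⟩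
      exact ⟨hGC0.le ⟨hv.1, hvJ.1⟩, hvJ.2⟩
    apply hnle
    have hlow : Nat.card C0 ≤ Nat.card ↥(fix σ G ⊓ fix σ F) := by
      have h1 := card_sup_mul_inf (fix σ G) (fix σ F)
      have h2 := (h.basic σ hinj hp0 M hM hMtop hMP)
      have h3 : Nat.card (fix σ G) = Nat.card (fix σ A) :=
        fix_card_eq σ hinj hp0 M hM hMtop hMP hGo h.offA hGc
      have h4 : Nat.card (fix σ F) = Nat.card (fix σ A) :=
        fix_card_eq σ hinj hp0 M hM hMtop hMP hFo h.offA (hFc.trans h.card_eq.symm)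
      rw [h3, h4] at h1
      refine Nat.le_of_mul_le_mul_left (?_ : Nat.card V * _ ≤ Nat.card V * _) Nat.card_pos
      calc Nat.card V * Nat.card C0 = Nat.card A * Nat.card (fix σ A) * Nat.card C0 := by rw [h2.2.1]
        _ = Nat.card A * Nat.card C0 * Nat.card (fix σ A) := by ring
        _ = Nat.card (fix σ A) * Nat.card (fix σ A) := by rw [h2.2.2.1]
        _ = Nat.card ↥(fix σ G ⊔ fix σ F) * Nat.card ↥(fix σ G ⊓ fix σ F) := h1.symm
        _ ≤ _ := Nat.mul_le_mul_right _ (Nat.card_le_card_of_injective _ Subtype.val_injective)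
    have h5 : C0 ⊓ fix σ D = C0 := AddSubgroup.eq_of_le_of_card_ge inf_le_left
      (hlow.trans (Nat.card_le_card_of_injective _ (Set.inclusion_injective hsub)))
    exact h5.ge.trans inf_le_right
  -- `a` normalizes `F`
  obtain ⟨f₁, hf₁, hf₁1⟩ := (ne_bot_iff_exists_ne_one.1 hFo.ne |> fun ⟨x, hx⟩ =>
    (⟨x.1, x.2, fun e => hx (Subtype.ext e)⟩ : ∃ b, b ∈ F ∧ b ≠ 1))
  have hFp := hFo.quad.isPGroup σ hinj hp0
  have haF : cj a F = F := by
    conv_lhs => rw [← hEF, hE, cj_mul, mul_inv_cancel, cj_one]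
  have hnorm : zpowers a ≤ normalizer (F : Set P) := by
    rw [zpowers_le, mem_normalizer_iff]
    intro x
    conv_rhs => rw [← haF, mem_cj]
    simp [mul_assoc]
  have hT : IsPGroup p ↥(zpowers a ⊔ F) :=
    IsPGroup.to_sup_of_normal_right' ((hGo.quad.isPGroup σ hinj hp0).to_le (zpowers_le.2 ha)) hFp hnorm
  obtain ⟨k, hkT⟩ := hMP _ hT
  have hkF : At M k F := fun x hx => hkT x (mem_sup_right hx)
  have hkG : At M k G := at_of_group M hM hMP (hGo.quad.isPGroup σ hinj hp0) ha ha1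
    (hkT a (mem_sup_left (mem_zpowers a)))
  rcases hGcase with hI | hII
  · exact hI F hF k hkG hkF
  obtain ⟨H', hH'r, hH'⟩ := hII G hG hGC
  have hGA : ∀ G', Root A C G' → G' ≠ C → ∃ H, Root C D H ∧ ∃ l, At M l G' ∧ At M l H := fun G' h1 h2 => by
    obtain ⟨H, hH, hH'⟩ := hII G' h1 h2
    unfold Far at hH'; push Not at hH'
    exact ⟨H, hH, hH'⟩
  have hFC : F ≠ C := fun e => by
    subst e
    exact (root_opp σ hinj hp0 M hM hMtop hMP h hG (root_right A F) hGC).far k hkG hkF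
  -- `a C a⁻¹` is a member of the spread of `G` and `C`
  set C1 := cj a C with hC1
  have hC1r : Root A C C1 := by
    refine mem_roots σ hinj hp0 M hM hMtop hMP h (h.offB.conj σ a) ((card_cj a C).trans h.card_eq.symm) ?_
    intro u hu
    have hu' : u ∈ fix σ G ⊓ fix σ C := hGC0.ge hu
    exact (mem_fix_conj σ).2 (by rw [hu'.1 _ (inv_mem ha)]; exact hu'.2)
  have hGC1 : Opp σ M G C1 := by
    have := (root_opp σ hinj hp0 M hM hMtop hMP h hG (root_right A C) hGC).conj σ M a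
    rwa [cj_self ha] at this
  have hC1C : C1 ≠ C := fun e => by
    have hO := (root_opp σ hinj hp0 M hM hMtop hMP h hG (root_right A C) hGC).step σ hinj hp0 M hM hMtop hMP ha ha1
    rw [← hC1, e] at hO
    obtain ⟨l, hl⟩ := hMP _ (h.offB.quad.isPGroup σ hinj hp0)
    exact hO.far l hl hl
  obtain ⟨H, hH, l, hlC1, hlH⟩ := hGA C1 hC1r hC1C
  -- `H` is an `F`-conjugate of `C`
  have hOFC := root_opp σ hinj hp0 M hM hMtop hMP hOD hF (root_left C D) hFC
  obtain ⟨hHo, hHc⟩ := root_off σ hinj hp0 M hM hMtop hMP hOD hH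
  have hHF : Root F C H := mem_roots σ hinj hp0 M hM hMtop hMP hOFC hHo (hHc.trans hFc.symm)
    (by rw [root_inf σ hinj hp0 M hM hMtop hMP hOD hF (root_left C D) hFC]; exact inf_le_fix_root σ hH)
  rcases hHF with rfl | ⟨f, hf, rfl⟩
  · have e := at_unique M hM hFp hf₁ hf₁1 (hlH f₁ hf₁) (hkF f₁ hf₁)
    exact hGC1.far l (hkG.move M e) hlC1
  obtain ⟨c, hcC, hc1⟩ := (ne_bot_iff_exists_ne_one.1 h.offB.ne |> fun ⟨x, hx⟩ =>
    (⟨x.1, x.2, fun e => hx (Subtype.ext e)⟩ : ∃ b, b ∈ C ∧ b ≠ 1))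
  have hu := at_unique M hM (h.offB.quad.isPGroup σ hinj hp0) hcC hc1 (at_cj_iff.1 hlH c hcC)
    (at_cj_iff.1 hlC1 c hcC)
  by_cases hfa : f = a
  · subst hfa
    refine hJG ((inf_le_fix_root σ hF).trans fun v hv => ?_)
    exact hGo.mem_fix σ hinj hp0 M hM hMtop hMP ha ha1 (hv f hf)
  -- `f⁻¹ a` fixes the points of `F` and of `C`
  set t := f⁻¹ * a with ht
  have htT : t ∈ zpowers a ⊔ F := mul_mem (inv_mem (mem_sup_right hf)) (mem_sup_left (mem_zpowers a))
  have ht1 : t ≠ 1 := fun e => hfa (inv_mul_eq_one.1 e)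
  set m := f⁻¹ * l with hm
  have htm : m⁻¹ * t * m ∈ M := by
    have := hu
    simpa [hm, ht, mul_assoc] using this
  have hFm : At M m F := fun x hx => at_of_group M hM hMP hT htT ht1 htm x (mem_sup_right hx)
  have hCm : At M m C := at_cj_iff.1 hlH
  exact hOFC.far m hFm hCm

end CfsgLib.FFStronglyP
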