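/-
A group with a strongly `p`-embedded subgroup generated by its `p`-elements and having a quadratic offender is
`SL₂(F)` on its natural module modulo fixed points.
-/
import Cfsg.Agent.FFStronglyP.Spread

set_option autoImplicit false

namespace CfsgLib.FFStronglyP

open Subgroup CfsgLib.SL2Recognition
open scoped MatrixGroups

variable {P : Type*} [Group P] {V : Type*} [AddCommGroup V] (σ : P →* AddMonoid.End V)
  {p : ℕ} [Fact p.Prime] (hinj : Function.Injective σ) (hp0 : ∀ v : V, p • v = 0) (M : Subgroup P)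
  (hM : ∀ z g : P, z ∈ M → z ≠ 1 → IsPGroup p (zpowers z) → g * z * g⁻¹ ∈ M → g ∈ M)
  (hMtop : M ≠ ⊤) (hMP : ∀ R : Subgroup P, IsPGroup p R → ∃ h, At M h R)
  [Finite P] [Finite V]

include hinj hp0 hM hMtop hMP

theorem exists_natural_sl2 {A : Subgroup P} (hA : Off σ A)
    (hgenP : ∀ N : Subgroup P, (∀ R : Subgroup P, IsPGroup p R → R ≤ N) → N = ⊤) :
    ∃ (F : Type) (_ : Field F) (_ : Fintype F) (φ : P ≃* SL(2, F)) (ψ : V →+ (Fin 2 → F)),
      Function.Surjective ψ ∧ (∀ v, ψ v = 0 ↔ v ∈ fix σ ⊤) ∧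
        ∀ g v, ψ (σ g v) = (φ g).1.mulVec (ψ v) := by
  classical
  obtain ⟨C, hAC⟩ := exists_opp σ hinj hp0 M hM hMtop hMP hA
  obtain ⟨hXYtop, hAV, hAX, hcut⟩ := hAC.basic σ hinj hp0 M hM hMtop hMP
  obtain ⟨-, -, hCY, -⟩ := hAC.symm.basic σ hinj hp0 M hM hMtop hMP
  -- every offender of this order is a member of both spreads
  have hmem : ∀ {A C D : Subgroup P}, Opp σ M A C → Off σ D → Nat.card D = Nat.card A → Root A C D :=
    fun hO hD hc => mem_roots σ hinj hp0 M hM hMtop hMP hO hD hc (inf_le_fix σ hinj hp0 M hM hMtop hMP hO hD hc)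
  obtain ⟨k, hk⟩ := hMP _ (hA.quad.isPGroup σ hinj hp0)
  obtain ⟨a₀, ha₀, ha₀1⟩ := (ne_bot_iff_exists_ne_one.1 hA.ne |> fun ⟨x, hx⟩ =>
    (⟨x.1, x.2, fun e => hx (Subtype.ext e)⟩ : ∃ b, b ∈ A ∧ b ≠ 1))
  obtain ⟨c₀, hc₀, hc₀1⟩ := (ne_bot_iff_exists_ne_one.1 hAC.offB.ne |> fun ⟨x, hx⟩ =>
    (⟨x.1, x.2, fun e => hx (Subtype.ext e)⟩ : ∃ b, b ∈ C ∧ b ≠ 1))
  -- an offender is a Sylow subgroup
  have hsyl : ∀ S : Sylow p P, A ≤ S → (S : Subgroup P) ≤ A := by
    intro S hAS s hs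
    have hSp := S.isPGroup'
    have hkS : At M k (S : Subgroup P) := at_of_group M hM hMP hSp (hAS ha₀) ha₀1 (hk a₀ ha₀)
    rcases hmem hAC (hAC.offB.conj σ s) ((card_cj s C).trans hAC.card_eq.symm) with e | ⟨a, ha, e⟩
    · exfalso
      have hC : At M (s⁻¹ * k) C := at_cj_iff.1 (e ▸ hk)
      refine hAC.far k hk (hC.move M ?_)
      simpa [mul_assoc] using hkS s hs
    · by_contra hsA
      set t := a⁻¹ * s with ht
      have ht1 : t ≠ 1 := fun e' => hsA (inv_mul_eq_one.1 e' ▸ ha)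
      have htS : t ∈ (S : Subgroup P) := mul_mem (inv_mem (hAS ha)) hs
      have htC : cj t C = C := by rw [ht, ← cj_mul, e, cj_mul, inv_mul_cancel, cj_one]
      obtain ⟨l, hl⟩ := hMP _ (hAC.offB.quad.isPGroup σ hinj hp0)
      have h1 := at_unique M hM (hAC.offB.quad.isPGroup σ hinj hp0) hc₀ hc₀1
        (at_cj_iff.1 (htC.symm ▸ hl) c₀ hc₀) (hl c₀ hc₀)
      have h2 : l⁻¹ * t * l ∈ M := by simpa [mul_assoc] using M.inv_mem h1
      exact hAC.far l (fun x hx => at_of_group M hM hMP hSp htS ht1 h2 x (hAS hx)) hl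
  -- hence the pair generates
  have hgen : A ⊔ C = ⊤ := by
    refine hgenP _ fun R hR => ?_
    obtain ⟨S, hS⟩ := (hA.quad.isPGroup σ hinj hp0).exists_le_sylow
    obtain ⟨T, hT⟩ := hR.exists_le_sylow
    obtain ⟨g, hg⟩ := MulAction.exists_smul_eq P S T
    refine hT.trans fun x hx => ?_
    have hroot := hmem hAC (hA.conj σ g) (card_cj g A)
    refine root_le hroot ?_
    rw [mem_cj]
    refine hsyl S hS ?_
    rw [← hg, Sylow.coe_subgroup_smul, mem_pointwise_smul_iff_inv_smul_mem] at hx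
    simpa [MulAut.smul_def] using hx
  set C₀ := fix σ (⊤ : Subgroup P) with hC₀def
  have hC₀ : ∀ g, ∀ v ∈ C₀, σ g v = v := fun g v hv => hv g (mem_top g)
  set X := fix σ A with hXdef
  set Y := fix σ C with hYdef
  have hXY : X ⊓ Y = C₀ := by rw [← fix_sup, hgen]
  rw [hXY] at hAX
  rw [inf_comm, hXY] at hCY
  have hC₀X : C₀ ≤ X := fix_anti σ le_top
  have hC₀Y : C₀ ≤ Y := fix_anti σ le_top
  have hC₀inv : ∀ g, C₀ ≤ C₀.comap (σ g : V →+ V) := fun g v hv => by
    show σ g v ∈ C₀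
    rw [hC₀ g v hv]; exact hv
  let ρ : P →* AddMonoid.End (V ⧸ C₀) :=
    { toFun := fun g => QuotientAddGroup.map C₀ C₀ (σ g) (hC₀inv g)
      map_one' := AddMonoidHom.ext fun w => by
        induction w using QuotientAddGroup.induction_on with
        | _ v => exact congrArg QuotientAddGroup.mk (apply_one σ v)
      map_mul' := fun g h => AddMonoidHom.ext fun w => by
        induction w using QuotientAddGroup.induction_on with
        | _ v => exact congrArg QuotientAddGroup.mk (apply_mul σ g h v) }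
  have hρ : ∀ g (v : V), ρ g (v : V ⧸ C₀) = (σ g v : V) := fun _ _ => rfl
  have hρinj : Function.Injective ρ := by
    rw [injective_iff_map_eq_one]
    intro g hg
    by_contra hg1
    have hker : ∀ n ∈ ρ.ker, ∀ v, σ n v - v ∈ C₀ := fun n hn v => by
      have := DFunLike.congr_fun (MonoidHom.mem_ker.1 hn) (v : V ⧸ C₀)
      rw [hρ] at this
      exact QuotientAddGroup.eq_iff_sub_mem.1 this
    have hN : IsPGroup p ρ.ker := Quad.isPGroup σ hinj hp0
      (fun a ha b hb v => hC₀ a _ (hker b hb v))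
    obtain ⟨h, hh⟩ := hMP _ hN
    apply hMtop
    refine eq_top_iff.2 fun x _ => ?_
    have hgh := hh g hg
    refine hM _ x hgh (fun e => hg1 ?_) ?_ ?_
    · calc g = h * (h⁻¹ * g * h) * h⁻¹ := by group
        _ = 1 := by rw [e]; group
    · refine hN.to_le (zpowers_le.2 ?_)
      simpa [mul_assoc] using (inferInstance : ρ.ker.Normal).conj_mem g hg h⁻¹
    · have hn : h * (x * (h⁻¹ * g * h) * x⁻¹) * h⁻¹ ∈ ρ.ker := by
        have := (inferInstance : ρ.ker.Normal).conj_mem g hg (h * x * h⁻¹)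
        simpa [mul_assoc] using this
      simpa [mul_assoc] using hh _ hn
  set π := QuotientAddGroup.mk' C₀
  have hqcard : ∀ S : AddSubgroup V, C₀ ≤ S → Nat.card S = Nat.card (S.map π) * Nat.card C₀ := by
    intro S hS
    let f : S →+ S.map π := π.addSubgroupMap S
    have hf : Function.Surjective f := π.addSubgroupMap_surjective S
    have e : f.ker = C₀.addSubgroupOf S := AddSubgroup.ext fun s => by
      rw [AddMonoidHom.mem_ker, Subtype.ext_iff, AddSubgroup.mem_addSubgroupOf]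
      exact QuotientAddGroup.eq_zero_iff _
    rw [AddSubgroup.card_eq_card_quotient_mul_card_addSubgroup f.ker,
      Nat.card_congr (QuotientAddGroup.quotientKerEquivOfSurjective f hf).toEquiv, e,
      Nat.card_congr (AddSubgroup.addSubgroupOfEquivOfLe hS).toEquiv]
  set X' := X.map π
  set Y' := Y.map π
  have hX' : Nat.card X' = Nat.card A :=
    Nat.eq_of_mul_eq_mul_right (Nat.card_pos (α := C₀)) (by rw [← hqcard X hC₀X, hAX])
  have hY' : Nat.card Y' = Nat.card A :=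
    Nat.eq_of_mul_eq_mul_right (Nat.card_pos (α := C₀)) (by rw [← hqcard Y hC₀Y, ← hCY, hAC.card_eq])
  have hXY' : X' ⊓ Y' = ⊥ := eq_bot_iff.2 fun w hw => by
    obtain ⟨⟨x, hx, rfl⟩, ⟨y, hy, he⟩⟩ := hw
    have h1 : y - x ∈ C₀ := QuotientAddGroup.eq_iff_sub_mem.1 he
    have h2 : x ∈ Y := by simpa using sub_mem hy (hC₀Y h1)
    exact (QuotientAddGroup.eq_zero_iff x).2 (hXY.le ⟨hx, h2⟩)
  have hsup' : X' ⊔ Y' = ⊤ := by
    rw [← AddSubgroup.map_sup, hXYtop, AddSubgroup.map_top_of_surjective _ (QuotientAddGroup.mk'_surjective _)]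
  obtain ⟨F, hF, hFt, φ, ψ, -, hψ⟩ := exists_sl2 (p := p) ρ hρinj
    (fun w => by
      induction w using QuotientAddGroup.induction_on with
      | _ v => rw [← QuotientAddGroup.mk_nsmul, hp0]; rfl)
    (A := A) (B := C) hgen (X := X') (Y := Y') hXY' hsup'
    (fun a ha w hw => by
      obtain ⟨x, hx, rfl⟩ := hw
      exact congrArg QuotientAddGroup.mk (hx a ha))
    (fun a ha w => by
      induction w using QuotientAddGroup.induction_on with
      | _ v => exact ⟨σ a v - v, fun a' ha' => hA.quad a' ha' a ha v, rfl⟩)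
    (fun b hb w hw => by
      obtain ⟨x, hx, rfl⟩ := hw
      exact congrArg QuotientAddGroup.mk (hx b hb))
    (fun b hb w => by
      induction w using QuotientAddGroup.induction_on with
      | _ v => exact ⟨σ b v - v, fun b' hb' => hAC.offB.quad b' hb' b hb v, rfl⟩)
    hA.ne hY'.symm (hX'.trans hY'.symm) hAC.card_eq.symm
    (fun a ha ha1 w hw h => by
      obtain ⟨y, hy, rfl⟩ := hw
      have h3 : σ a y - y ∈ C₀ := QuotientAddGroup.eq_iff_sub_mem.1 h
      have h4 : σ a y ∈ Y := by simpa using Y.add_mem (hC₀Y h3) hy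
      have h5 := hcut a⁻¹ (inv_mem ha) (inv_ne_one.2 ha1) ⟨hy, (mem_fix_conj σ).2 (by rwa [inv_inv])⟩
      exact (QuotientAddGroup.eq_zero_iff y).2 (hXY.le ⟨h5, hy⟩))
    (fun a ha ha1 => by
      have hO := hAC.step σ hinj hp0 M hM hMtop hMP ha ha1
      rcases hmem hAC.symm (hAC.offB.conj σ a) (card_cj a C) with e | ⟨b, hb, e⟩
      · exfalso
        rw [e] at hO
        obtain ⟨l, hl⟩ := hMP _ (hAC.offB.quad.isPGroup σ hinj hp0)
        exact hO.far l hl hl
      refine ⟨b, hb, fun w hw => ?_⟩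
      obtain ⟨y, hy, rfl⟩ := hw
      have h1 : σ a y ∈ fix σ (cj a C) := (mem_fix_conj σ).2 (by rw [apply_inv_apply]; exact hy)
      rw [e] at h1
      have hz : σ b⁻¹ (σ a y) ∈ X := (mem_fix_conj σ).1 h1
      set z := σ b⁻¹ (σ a y) with hzdef
      have hbz : σ b z = σ a y := by rw [hzdef, apply_apply_inv]
      have hd : σ a y - y ∈ X := fun a' ha' => hA.quad a' ha' a ha y
      have hd2 : σ b z - z ∈ Y := fun b' hb' => hAC.offB.quad b' hb' b hb z
      have hd4 : z - (σ a y - y) ∈ C₀ := by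
        refine hXY.le ⟨X.sub_mem hz hd, ?_⟩
        have e2 : z - (σ a y - y) = -(σ b z - z) + y := by rw [hbz]; abel
        rw [e2]
        exact Y.add_mem (Y.neg_mem hd2) hy
      show ρ b (ρ a (y : V ⧸ C₀) - (y : V ⧸ C₀)) = _
      rw [show ρ a (y : V ⧸ C₀) - (y : V ⧸ C₀) = (z : V) from
        (QuotientAddGroup.eq_iff_sub_mem.2 hd4).symm, hρ]
      exact congrArg QuotientAddGroup.mk hbz)
  refine ⟨F, hF, hFt, φ, ψ.toAddMonoidHom.comp π,
    ψ.surjective.comp (QuotientAddGroup.mk'_surjective _), fun v => ?_, fun g v => hψ g (v : V ⧸ C₀)⟩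
  show ψ (π v) = 0 ↔ _
  rw [map_eq_zero_iff ψ ψ.injective]
  exact QuotientAddGroup.eq_zero_iff v

end CfsgLib.FFStronglyP
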